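import Mathlib

/-!
# Siegel blocks of `Sp₄`

The Levi subgroup `GL₂`, the two unipotent radicals of the Siegel parabolics, and the
factorisation of a symplectic matrix with invertible upper left block.
-/

set_option autoImplicit false

namespace CfsgLib.SpFourSquare

open Matrix

variable {F : Type*} [Field F]

/-- A `2 × 2` matrix. -/
abbrev M2 (F : Type*) := Matrix (Fin 2) (Fin 2) F

/-- `Sp₄(F)`. -/
abbrev Sp4 (F : Type*) [Field F] := Matrix.symplecticGroup (Fin 2) F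

/-- The Siegel Levi embedding. -/
noncomputable def levi : GL (Fin 2) F →* Sp4 F where
  toFun A := ⟨fromBlocks (A : M2 F) 0 0 ((A⁻¹ : GL (Fin 2) F) : M2 F)ᵀ, by
    rw [SymplecticGroup.fromBlocks_mem_iff]
    refine ⟨by simp, by simp, ?_⟩
    rw [← transpose_mul, ← Units.val_mul, inv_mul_cancel]
    simp⟩
  map_one' := Subtype.ext (by simp)
  map_mul' A B := Subtype.ext (by
    simp only [Submonoid.coe_mul, fromBlocks_multiply, Matrix.mul_zero, Matrix.zero_mul, add_zero,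
      zero_add, ← transpose_mul, _root_.mul_inv_rev, Units.val_mul])

/-- Lower unipotent. -/
noncomputable def low (Y : M2 F) (hY : Yᵀ = Y) : Sp4 F :=
  ⟨fromBlocks 1 0 Y 1, by rw [SymplecticGroup.fromBlocks_mem_iff]; simp [hY]⟩

/-- Upper unipotent. -/
noncomputable def upp (Z : M2 F) (hZ : Zᵀ = Z) : Sp4 F :=
  ⟨fromBlocks 1 Z 0 1, by rw [SymplecticGroup.fromBlocks_mem_iff]; simp [hZ]⟩

/-- The symplectic `J`. -/
noncomputable def symJ4 : Sp4 F := SymplecticGroup.symJ (Fin 2) F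

theorem levi_mul_low (A : GL (Fin 2) F) (X Y : M2 F) (hX : Xᵀ = X) (hY : Yᵀ = Y)
    (h : Y * (A : M2 F) = ((A⁻¹ : GL (Fin 2) F) : M2 F)ᵀ * X) :
    levi A * low X hX = low Y hY * levi A :=
  Subtype.ext (by simp [levi, low, fromBlocks_multiply, h, -Matrix.coe_units_inv])

theorem low_add (X Y : M2 F) (hX : Xᵀ = X) (hY : Yᵀ = Y) :
    low X hX * low Y hY = low (X + Y) (by rw [transpose_add, hX, hY]) :=
  Subtype.ext (by simp [low, fromBlocks_multiply])

theorem low_zero : low (0 : M2 F) transpose_zero = 1 := Subtype.ext (by simp [low])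

theorem symJ4_levi (A B : GL (Fin 2) F) (h : (B : M2 F) = ((A⁻¹ : GL (Fin 2) F) : M2 F)ᵀ) :
    symJ4 * levi A = levi B * symJ4 := by
  have hB : ((B⁻¹ : GL (Fin 2) F) : M2 F)ᵀ = A := by
    have h2 : ((B⁻¹ : GL (Fin 2) F) : M2 F) = (A : M2 F)ᵀ := by
      refine Units.inv_eq_of_mul_eq_one_right ?_
      rw [h, ← transpose_mul, ← Units.val_mul, mul_inv_cancel]
      simp
    rw [h2, transpose_transpose]
  exact Subtype.ext (by simp [symJ4, levi, Matrix.J, fromBlocks_multiply, ← h, hB, -Matrix.coe_units_inv])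

theorem symJ4_upp (Z : M2 F) (hZ : Zᵀ = Z) :
    symJ4 * upp Z hZ = low (-Z) (by rw [transpose_neg, hZ]) * symJ4 :=
  Subtype.ext (by simp [symJ4, low, upp, Matrix.J, fromBlocks_multiply])

/-- Factorisation when the upper left block is invertible. -/
theorem factor (g : Sp4 F) (M : GL (Fin 2) F) (hM : (g : Matrix (Fin 2 ⊕ Fin 2) (Fin 2 ⊕ Fin 2) F).toBlocks₁₁ = (M : M2 F)) :
    ∃ (Y Z : M2 F) (hY : Yᵀ = Y) (hZ : Zᵀ = Z), g = low Y hY * levi M * upp Z hZ := by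
  obtain ⟨A, B, C, D, hG⟩ : ∃ A B C D : M2 F, (g : Matrix (Fin 2 ⊕ Fin 2) (Fin 2 ⊕ Fin 2) F) = fromBlocks A B C D :=
    ⟨_, _, _, _, (fromBlocks_toBlocks _).symm⟩
  rw [hG, toBlocks_fromBlocks₁₁] at hM
  subst hM
  have hg := g.2
  rw [hG, SymplecticGroup.fromBlocks_mem_iff] at hg
  obtain ⟨h1, -, h3⟩ := hg
  set M' : M2 F := ((M⁻¹ : GL (Fin 2) F) : M2 F) with hM'def
  have e1 : (M : M2 F) * M' = 1 := by rw [hM'def, ← Units.val_mul, mul_inv_cancel]; rfl
  have e2 : M' * (M : M2 F) = 1 := by rw [hM'def, ← Units.val_mul, inv_mul_cancel]; rfl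
  have t1 : M'ᵀ * (M : M2 F)ᵀ = 1 := by rw [← transpose_mul, e1, transpose_one]
  have hY : (C * M')ᵀ = C * M' := by
    calc (C * M')ᵀ = M'ᵀ * (Cᵀ * ((M : M2 F) * M')) := by rw [e1, mul_one, transpose_mul]
      _ = M'ᵀ * ((Cᵀ * (M : M2 F)) * M') := by rw [mul_assoc Cᵀ]
      _ = M'ᵀ * ((M : M2 F)ᵀ * C * M') := by rw [h1]
      _ = C * M' := by rw [← mul_assoc, ← mul_assoc, t1, one_mul]
  have hgT := g.2
  rw [hG] at hgT
  have hgT' := SymplecticGroup.transpose_mem hgT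
  rw [fromBlocks_transpose, SymplecticGroup.fromBlocks_mem_iff] at hgT'
  obtain ⟨h1', -, -⟩ := hgT'
  rw [transpose_transpose, transpose_transpose] at h1'
  have hZ : (M' * B)ᵀ = M' * B := by
    calc (M' * B)ᵀ = Bᵀ * M'ᵀ := transpose_mul _ _
      _ = M' * ((M : M2 F) * Bᵀ) * M'ᵀ := by rw [← mul_assoc, e2, one_mul]
      _ = M' * (B * (M : M2 F)ᵀ) * M'ᵀ := by rw [h1']
      _ = M' * B * ((M : M2 F)ᵀ * M'ᵀ) := by rw [mul_assoc, mul_assoc, mul_assoc]
      _ = M' * B := by rw [← transpose_mul, e2, transpose_one, mul_one]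
  refine ⟨C * M', M' * B, hY, hZ, Subtype.ext ?_⟩
  rw [hG]
  have hD : D = C * M' * B + M'ᵀ := by
    calc D = M'ᵀ * ((M : M2 F)ᵀ * D) := by rw [← mul_assoc, t1, one_mul]
      _ = M'ᵀ * (1 + Cᵀ * B) := by rw [← h3, sub_add_cancel]
      _ = M'ᵀ + (C * M')ᵀ * B := by rw [mul_add, mul_one, ← mul_assoc, ← transpose_mul]
      _ = C * M' * B + M'ᵀ := by rw [hY, add_comm]
  simp only [levi, low, upp, MonoidHom.coe_mk, OneHom.coe_mk, Submonoid.coe_mul, fromBlocks_multiply,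
    Matrix.mul_zero, Matrix.zero_mul, add_zero, zero_add, one_mul, mul_one, ← hM'def]
  rw [fromBlocks_inj]
  refine ⟨rfl, ?_, ?_, ?_⟩
  · rw [← mul_assoc, e1, one_mul]
  · rw [mul_assoc, e2, mul_one]
  · rw [mul_assoc (C * M') (M : M2 F), ← mul_assoc (M : M2 F), e1, one_mul, hD]

end CfsgLib.SpFourSquare
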