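import Cfsg.Agent.Lib.SpFourSquare.Shape
import Cfsg.Prelude.Def_Classical

/-!
# `PSp₄(q)`: the square of a semisimple class covers the non-identity elements

The class is that of the Siegel Levi element `(A, A⁻ᵀ)` with `A ∈ GL₂(q)` irreducible of trace `1`
and determinant different from `1`. A non-central `g` is, up to sign and conjugation,
`low Y * levi M * upp Z` with `M` in the product of the class of `A` and the class of `A⁻¹`.
-/

set_option autoImplicit false

namespace CfsgLib.SpFourSquare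

open Matrix Cfsg

variable {F : Type*} [Field F]

theorem sylvester {ν : F} (hν : Good ν) (Y : M2 F) (hY : Yᵀ = Y) :
    IsConj (levi (AA hν.1)) (low Y hY * levi (AA hν.1)) := by
  set A := AA hν.1
  set A' : M2 F := ((A⁻¹ : GL (Fin 2) F) : M2 F) with hA'
  have e1 : (A : M2 F) * A' = 1 := by rw [hA', ← Units.val_mul, mul_inv_cancel]; rfl
  have e2 : A' * (A : M2 F) = 1 := by rw [hA', ← Units.val_mul, inv_mul_cancel]; rfl
  have t1 : A'ᵀ * (A : M2 F)ᵀ = 1 := by rw [← transpose_mul, e1, transpose_one]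
  obtain ⟨X, hX, hXW⟩ := exists_twist hν ((A : M2 F)ᵀ * Y * (A : M2 F))
    (by rw [transpose_mul, transpose_mul, transpose_transpose, hY, mul_assoc])
  set W : M2 F := A'ᵀ * -X * A' with hW'
  have hW : Wᵀ = W := by
    rw [hW', transpose_mul, transpose_mul, transpose_transpose, transpose_neg, hX, mul_assoc]
  have hmove : levi A * low (-X) (by rw [transpose_neg, hX]) = low W hW * levi A := by
    refine levi_mul_low A _ _ _ _ ?_
    rw [hW', mul_assoc (A'ᵀ * -X) A' (A : M2 F), e2, mul_one]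
  have hinv : (low X hX)⁻¹ = low (-X) (by rw [transpose_neg, hX]) := by
    refine inv_eq_of_mul_eq_one_right ?_
    rw [low_add]
    exact Subtype.ext (by simp [low])
  refine isConj_iff.2 ⟨low X hX, ?_⟩
  rw [hinv, mul_assoc, hmove, ← mul_assoc, low_add]
  have hsum : X + W = Y := by
    calc X + W = A'ᵀ * ((A : M2 F)ᵀ * X * (A : M2 F) - X) * A' := by
          rw [mul_sub, sub_mul, ← mul_assoc, ← mul_assoc, t1, one_mul, mul_assoc X, e1, mul_one, hW']
          simp [sub_eq_add_neg]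
      _ = Y := by
          rw [hXW, ← mul_assoc, ← mul_assoc, t1, one_mul, mul_assoc, e1, mul_one]
  congr 1
  exact Subtype.ext (by simp [low, hsum])

theorem low_levi_conj {ν : F} (hν : Good ν) (T : GL (Fin 2) F) (hT : ConjA hν.1 T) (Y : M2 F)
    (hY : Yᵀ = Y) : IsConj (levi (AA hν.1)) (low Y hY * levi T) := by
  obtain ⟨P, rfl⟩ := hT
  set Y' : M2 F := (P : M2 F)ᵀ * Y * (P : M2 F) with hY''
  have hY' : Y'ᵀ = Y' := by rw [hY'', transpose_mul, transpose_mul, transpose_transpose, hY, mul_assoc]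
  refine (sylvester hν Y' hY').trans (isConj_iff.2 ⟨levi P, ?_⟩)
  have hmove : levi P * low Y' hY' = low Y hY * levi P := by
    refine levi_mul_low P _ _ _ _ ?_
    rw [hY'', ← mul_assoc, ← mul_assoc, ← transpose_mul, ← Units.val_mul, mul_inv_cancel,
      Units.val_one, transpose_one, one_mul]
  rw [← mul_assoc, hmove, mul_assoc (low Y hY), ← map_mul, mul_assoc (low Y hY), ← map_inv, ← map_mul]

theorem levi_upp_conj {ν : F} (hν : Good ν) (T : GL (Fin 2) F) (hT : ConjA hν.1 T⁻¹) (Z : M2 F)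
    (hZ : Zᵀ = Z) : IsConj (levi (AA hν.1)) (levi T * upp Z hZ) := by
  let U : GL (Fin 2) F := GeneralLinearGroup.mkOfDetNeZero ((T⁻¹ : GL (Fin 2) F) : M2 F)ᵀ
    (by rw [det_transpose]; exact ((Matrix.isUnit_iff_isUnit_det _).1 (Units.isUnit T⁻¹)).ne_zero)
  have hU : (U : M2 F) = ((T⁻¹ : GL (Fin 2) F) : M2 F)ᵀ := rfl
  set U' : M2 F := ((U⁻¹ : GL (Fin 2) F) : M2 F) with hU'
  set W : M2 F := U'ᵀ * -Z * U' with hW'
  have hW : Wᵀ = W := by
    rw [hW', transpose_mul, transpose_mul, transpose_transpose, transpose_neg, hZ, mul_assoc]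
  have hmove : levi U * low (-Z) (by rw [transpose_neg, hZ]) = low W hW * levi U := by
    refine levi_mul_low U _ _ _ _ ?_
    rw [hW', mul_assoc (U'ᵀ * -Z) U' (U : M2 F), hU', ← Units.val_mul, inv_mul_cancel,
      Units.val_one, mul_one]
  refine (low_levi_conj hν U (transpose_conjA hν hT hU) W hW).trans (isConj_iff.2 ⟨symJ4⁻¹, ?_⟩)
  rw [inv_inv, ← hmove, mul_assoc, mul_assoc, ← symJ4_upp Z hZ, ← mul_assoc (levi U),
    ← symJ4_levi T U hU]
  group

theorem not_dvd_orderOf {ν : F} (hν : Good ν) (p : ℕ) [Fact p.Prime] [CharP F p] [Fintype F] :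
    ¬ p ∣ orderOf (AA hν.1) := by
  classical
  rintro ⟨k, hk⟩
  set A := AA hν.1
  have hp := (Fact.out : p.Prime)
  have hord : orderOf (A ^ k) = p := by
    have hk0 : k ≠ 0 := fun h => (orderOf_pos A).ne' (by rw [hk, h, mul_zero])
    rw [orderOf_pow' _ hk0, hk, Nat.gcd_eq_right (dvd_mul_left k p),
      Nat.mul_div_cancel _ (Nat.pos_of_ne_zero hk0)]
  set N : M2 F := ((A ^ k : GL (Fin 2) F) : M2 F) - 1 with hN
  have hne : N ≠ 0 := by
    intro h
    rw [hN, sub_eq_zero] at h
    rw [show A ^ k = 1 from Units.ext h, orderOf_one] at hord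
    exact hp.one_lt.ne hord
  have hpow : N ^ p = 0 := by
    rw [hN, sub_pow_char_of_commute p (Commute.one_right _), one_pow, ← Units.val_pow_eq_pow_val,
      ← hord, pow_orderOf_eq_one, Units.val_one, sub_self]
  have hdet : N.det = 0 := by
    have := congrArg Matrix.det hpow
    rw [det_pow, det_zero] at this
    exact (pow_eq_zero_iff hp.ne_zero).1 this
  have hcomm : N * (A : M2 F) = (A : M2 F) * N := by
    rw [hN, sub_mul, mul_sub, one_mul, mul_one, ← Units.val_mul, ← Units.val_mul,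
      (Commute.pow_self A k).eq]
  rw [coe_AA] at hcomm
  have c00 := congrFun (congrFun hcomm 0) 0
  have c10 := congrFun (congrFun hcomm 1) 0
  simp [Matrix.mul_apply, Fin.sum_univ_two] at c00 c10
  -- `N = a + b A`
  set a := N 0 0
  set b := N 1 0
  have h01 : N 0 1 = -(ν * b) := c00
  have h11 : N 1 1 = a + b := by linear_combination c10
  rw [det_fin_two, h01, h11] at hdet
  by_cases hb : b = 0
  · have ha : a = 0 := by
      rw [hb] at hdet
      have : a * a = 0 := by linear_combination hdet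
      exact mul_self_eq_zero.1 this
    apply hne
    ext i j
    fin_cases i <;> fin_cases j
    · exact ha
    · simpa [hb] using h01
    · exact hb
    · simpa [ha, hb] using h11
  · refine hν.2.2 (-(a / b)) ?_
    field_simp
    linear_combination hdet

theorem exists_covering_class [Fintype F] (p : ℕ) [Fact p.Prime] [CharP F p]
    (h3 : 3 ≤ Fintype.card F) :
    ∃ x : Cfsg.PSp 2 F, ¬ p ∣ orderOf x ∧
      ∀ g : Cfsg.PSp 2 F, g ≠ 1 → ∃ u v : Cfsg.PSp 2 F, g = (u * x * u⁻¹) * (v * x * v⁻¹) := by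
  classical
  obtain ⟨ν, hν⟩ := exists_good h3
  have hF : ∃ a : F, a ≠ 0 ∧ a ≠ 1 := by
    obtain ⟨a, -, ha⟩ := Finset.exists_mem_notMem_of_card_lt_card
      (s := ({0, 1} : Finset F)) (t := Finset.univ) (by
        rw [Finset.card_univ]; exact (Finset.card_le_two).trans_lt h3)
    simp only [Finset.mem_insert, Finset.mem_singleton, not_or] at ha
    exact ⟨a, ha⟩
  let π := QuotientGroup.mk' (Subgroup.center (Sp4 F))
  refine ⟨π (levi (AA hν.1)), fun h => not_dvd_orderOf hν p
    (h.trans ((orderOf_map_dvd π _).trans (orderOf_map_dvd levi _))), fun g hg => ?_⟩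
  obtain ⟨g, rfl⟩ := QuotientGroup.mk_surjective g
  have main : ∀ h : Sp4 F, Compressed h →
      ∃ u v : Cfsg.PSp 2 F, π h = (u * π (levi (AA hν.1)) * u⁻¹) * (v * π (levi (AA hν.1)) * v⁻¹) := by
    rintro h ⟨P, M, hM, hMd, hMs⟩
    obtain ⟨T₁, T₂, rfl, h1, h2⟩ := exists_product hν M hMd hMs
    obtain ⟨Y, Z, hY, hZ, he⟩ := factor (P⁻¹ * h * P) (T₁ * T₂) hM
    obtain ⟨u, hu⟩ := isConj_iff.1 (low_levi_conj hν T₁ h1 Y hY)
    obtain ⟨v, hv⟩ := isConj_iff.1 (levi_upp_conj hν T₂ h2 Z hZ)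
    refine ⟨π (P * u), π (P * v), ?_⟩
    rw [← map_inv, ← map_inv, ← map_mul, ← map_mul, ← map_mul, ← map_mul, ← map_mul]
    congr 1
    rw [show h = P * (P⁻¹ * h * P) * P⁻¹ by group, he, map_mul]
    rw [show P * (low Y hY * (levi T₁ * levi T₂) * upp Z hZ) * P⁻¹ =
      P * ((low Y hY * levi T₁) * (levi T₂ * upp Z hZ)) * P⁻¹ by group, ← hu, ← hv]
    group
  have hsame : π (negSp g) = π g := by
    refine (QuotientGroup.eq).2 ?_
    rw [CfsgLib.Sp.mem_center_iff]
    right
    rw [Submonoid.coe_mul]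
    have h1 : ((negSp g)⁻¹ : Sp4 F).1 * (negSp g).1 = 1 := by
      rw [← Submonoid.coe_mul, inv_mul_cancel, Submonoid.coe_one]
    calc ((negSp g)⁻¹ : Sp4 F).1 * g.1 = -(((negSp g)⁻¹ : Sp4 F).1 * (negSp g).1) := by
          simp [negSp]
      _ = _ := by rw [h1]
  rcases compressed_or_neg g p hF with h | h
  · exact main g h
  · obtain ⟨u, v, huv⟩ := main _ h
    exact ⟨u, v, hsame.symm.trans huv⟩

end CfsgLib.SpFourSquare
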