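import Cfsg.Agent.Lib.SpFourSquare.Two
import Cfsg.Agent.Lib.Sp.Group

/-!
# A good Siegel compression for every non-central element of `Sp₄`

For `g` non-central, after a conjugation, the upper left block of `g` or of `-g` is `1` or a
non-scalar matrix of determinant `1` and trace different from `2`.
-/

set_option autoImplicit false

namespace CfsgLib.SpFourSquare

open Matrix Cfsg CfsgLib.Sp

variable {F : Type*} [Field F]

/-- Row vectors of length four. -/
abbrev V4 (F : Type*) := Fin 2 ⊕ Fin 2 → F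

/-- A `4 × 4` matrix. -/
abbrev M4 (F : Type*) := Matrix (Fin 2 ⊕ Fin 2) (Fin 2 ⊕ Fin 2) F

/-- The admissible blocks. -/
def OkBlock (M : GL (Fin 2) F) : Prop :=
  (M : M2 F).det = 1 ∧ (M = 1 ∨ (∀ c : F, (M : M2 F) ≠ c • 1) ∧ (M : M2 F).trace ≠ 2)

/-- Some conjugate has an admissible upper left block. -/
def Compressed (g : Sp4 F) : Prop :=
  ∃ (P : Sp4 F) (M : GL (Fin 2) F),
    ((P⁻¹ * g * P : Sp4 F) : Matrix (Fin 2 ⊕ Fin 2) (Fin 2 ⊕ Fin 2) F).toBlocks₁₁ = (M : M2 F) ∧ OkBlock M

/-- `-g`. -/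
def negSp (g : Sp4 F) : Sp4 F := ⟨-g.1, SymplecticGroup.neg_mem g.2⟩

theorem negSp_mulVec (g : Sp4 F) (x : V4 F) : (negSp g).1 *ᵥ x = -(g.1 *ᵥ x) := by
  simp [negSp, neg_mulVec]

theorem exists_sym (hF : ∃ a : F, a ≠ 0 ∧ a ≠ 1) (C : M2 F) (hC : C.det ≠ 0) :
    ∃ S : M2 F, Sᵀ = S ∧ (S * C).det = 1 ∧
      (-(S * C) = 1 ∨ (∀ c : F, -(S * C) ≠ c • 1) ∧ (-(S * C)).trace ≠ 2) := by
  classical
  by_cases hsym : Cᵀ = C
  · refine ⟨-C⁻¹, by rw [transpose_neg, transpose_nonsing_inv, hsym], ?_, Or.inl ?_⟩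
    · rw [neg_mul, nonsing_inv_mul _ (isUnit_iff_ne_zero.2 hC)]
      simp [det_neg]
    · rw [neg_mul, nonsing_inv_mul _ (isUnit_iff_ne_zero.2 hC), neg_neg]
  obtain ⟨a, ha0, ha1⟩ := hF
  set δ : F := C.det⁻¹
  by_contra hc
  push Not at hc
  -- every admissible `S` has trace functional `-2`
  have key : ∀ x y : F, x ≠ 0 →
      x * C 0 0 + y * (C 1 0 + C 0 1) + (δ + y * y) * x⁻¹ * C 1 1 = -2 := by
    intro x y hx
    have hS : (!![x, y; y, (δ + y * y) * x⁻¹] : M2 F)ᵀ = !![x, y; y, (δ + y * y) * x⁻¹] := by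
      ext i j; fin_cases i <;> fin_cases j <;> rfl
    have hdet : (!![x, y; y, (δ + y * y) * x⁻¹] * C).det = 1 := by
      rw [det_mul, det_fin_two_of]
      have : x * ((δ + y * y) * x⁻¹) - y * y = δ := by field_simp; ring
      rw [this]
      exact inv_mul_cancel₀ hC
    obtain ⟨hne, h⟩ := hc _ hS hdet
    have hns : ∀ c : F, -(!![x, y; y, (δ + y * y) * x⁻¹] * C) ≠ c • (1 : M2 F) := by
      intro c heq
      have hc0 : c ≠ 0 := by
        rintro rfl
        rw [zero_smul, neg_eq_zero] at heq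
        rw [heq] at hdet
        simp at hdet
      set S : M2 F := !![x, y; y, (δ + y * y) * x⁻¹]
      have hCS : C * S = (-c) • 1 := by
        have h1 : S * C = (-c) • 1 := by rw [neg_smul, ← heq, neg_neg]
        have h2 : ((-c)⁻¹ • S) * C = 1 := by
          rw [smul_mul_assoc, h1, smul_smul, inv_mul_cancel₀ (neg_ne_zero.2 hc0), one_smul]
        have h3 := mul_eq_one_comm.1 h2
        rw [mul_smul_comm] at h3
        rw [← h3, smul_smul, mul_inv_cancel₀ (neg_ne_zero.2 hc0), one_smul]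
      have h1 : S * C = (-c) • 1 := by rw [neg_smul, ← heq, neg_neg]
      apply hsym
      have h1' := congrArg transpose h1
      rw [transpose_mul, hS, transpose_smul, transpose_one] at h1'
      calc Cᵀ = (-c)⁻¹ • (Cᵀ * (S * C)) := by
            rw [h1, mul_smul_comm, mul_one, smul_smul, inv_mul_cancel₀ (neg_ne_zero.2 hc0), one_smul]
        _ = C := by
            rw [← mul_assoc, h1', smul_mul_assoc, one_mul, smul_smul,
              inv_mul_cancel₀ (neg_ne_zero.2 hc0), one_smul]
    have h2 := h hns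
    rw [trace_neg, trace_fin_two] at h2
    simp [Matrix.mul_apply, Fin.sum_univ_two] at h2
    linear_combination -h2
  have k10 := key 1 0 one_ne_zero
  have k11 := key 1 1 one_ne_zero
  have ka0 := key a 0 ha0
  have ka1 := key a 1 ha0
  have hia : a * a⁻¹ = 1 := mul_inv_cancel₀ ha0
  rw [inv_one] at k10 k11
  have hγ : C 1 1 = 0 := by
    have h : (a⁻¹ - 1) * C 1 1 = 0 := by linear_combination (ka1 - ka0) - (k11 - k10)
    refine (mul_eq_zero.1 h).resolve_left fun h' => ha1 ?_
    linear_combination hia - a * h'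
  have hβ : C 1 0 + C 0 1 = 0 := by linear_combination (k11 - k10) - hγ
  have hα : C 0 0 = 0 := by
    have h : (a - 1) * C 0 0 = 0 := by linear_combination ka0 - k10 - δ * (a⁻¹ - 1) * hγ
    exact (mul_eq_zero.1 h).resolve_left (sub_ne_zero.2 ha1)
  have h2 : (2 : F) = 0 := by linear_combination k10 - hα - δ * hγ
  refine hsym ?_
  ext i j
  fin_cases i <;> fin_cases j <;> simp
  · linear_combination hβ - C 0 1 * h2
  · linear_combination hβ - C 1 0 * h2

variable (g : Sp4 F)

/-- The form. -/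
local notation "B" => sympBilin 2 F

theorem form_mulVec (u v : V4 F) : B (g.1 *ᵥ u) (g.1 *ᵥ v) = B u v := by
  rw [sympBilin_apply, sympBilin_apply, sympForm_mulVec]

theorem form_swap (u v : V4 F) : B v u = -B u v := alt_flip sympBilin_isAlt u v

theorem form_self (u : V4 F) : B u u = 0 := sympBilin_isAlt u

theorem form_single (i j : Fin 2 ⊕ Fin 2) :
    B (Pi.single i 1) (Pi.single j 1) = Matrix.J (Fin 2) F i j := by
  simp [sympBilin, Matrix.toBilin'_single]

/-- Case of a nonsingular Gram matrix on an isotropic pair. -/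
theorem compressed_of_gram (hF : ∃ a : F, a ≠ 0 ∧ a ≠ 1) (u v : V4 F) (huv : B u v = 0)
    (hdet : B (g.1 *ᵥ u) u * B (g.1 *ᵥ v) v - B (g.1 *ᵥ u) v * B (g.1 *ᵥ v) u ≠ 0) :
    Compressed g := by
  classical
  let e : Fin 2 → V4 F := ![u, v]
  have hee : ∀ i j, B (e i) (e j) = 0 := by
    intro i j
    fin_cases i <;> fin_cases j <;> simp [e, form_self, huv, form_swap u v]
  have hgg : ∀ i j, B (g.1 *ᵥ e i) (g.1 *ᵥ e j) = 0 := fun i j => by rw [form_mulVec, hee]
  let C : M2 F := Matrix.of fun i j => B (g.1 *ᵥ e j) (e i)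
  have hC : C.det ≠ 0 := by
    rw [det_fin_two]
    simp only [C, Matrix.of_apply]
    simpa [e, mul_comm, mul_left_comm] using hdet
  obtain ⟨S, hS, hSC, hM⟩ := exists_sym hF C hC
  have hCC : C⁻¹ * C = 1 := nonsing_inv_mul _ (isUnit_iff_ne_zero.2 hC)
  have hCC' : C * C⁻¹ = 1 := mul_nonsing_inv _ (isUnit_iff_ne_zero.2 hC)
  let f₀ : Fin 2 → V4 F := fun k => ∑ j, C⁻¹ j k • (g.1 *ᵥ e j)
  let f : Fin 2 → V4 F := fun k => f₀ k + ∑ i, S i k • e i
  have h0e : ∀ k i, B (f₀ k) (e i) = (1 : M2 F) i k := by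
    intro k i
    simp only [f₀, map_sum, LinearMap.sum_apply, map_smul, LinearMap.smul_apply, smul_eq_mul]
    rw [← hCC', Matrix.mul_apply]
    exact Finset.sum_congr rfl fun j _ => mul_comm _ _
  have h00 : ∀ k l, B (f₀ k) (f₀ l) = 0 := by
    intro k l
    simp only [f₀, map_sum, LinearMap.sum_apply, map_smul, LinearMap.smul_apply, hgg, smul_zero,
      Finset.sum_const_zero]
  have hfe : ∀ k i, B (f k) (e i) = (1 : M2 F) i k := by
    intro k i
    simp only [f, map_add, LinearMap.add_apply, h0e, map_sum, LinearMap.sum_apply, map_smul,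
      LinearMap.smul_apply, hee, smul_zero, Finset.sum_const_zero, add_zero]
  have hff : ∀ k l, B (f k) (f l) = 0 := by
    intro k l
    have he0 : ∀ i, B (e i) (f₀ l) = -(1 : M2 F) i l := fun i => by rw [form_swap, h0e]
    have hSkl : S k l = S l k := congrFun (congrFun hS l) k
    simp only [f, map_add, LinearMap.add_apply, h00, map_sum, LinearMap.sum_apply, map_smul,
      LinearMap.smul_apply, hee, h0e, he0, smul_zero, Finset.sum_const_zero, add_zero, zero_add,
      smul_eq_mul, mul_neg, Finset.sum_neg_distrib, Matrix.one_apply, mul_ite, mul_one, mul_zero,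
      Finset.sum_ite_eq', Finset.mem_univ, if_true, hSkl]
    ring
  let col : Fin 2 ⊕ Fin 2 → V4 F := Sum.elim e f
  let Q : Matrix (Fin 2 ⊕ Fin 2) (Fin 2 ⊕ Fin 2) F := Matrix.of fun i j => col j i
  have hQ : Q ∈ symplecticGroup (Fin 2) F := by
    rw [SymplecticGroup.mem_iff']
    ext i j
    rw [mul_mul_apply, show Qᵀ i = col i from rfl, show Qᵀ j = col j from rfl, ← Matrix.toBilin'_apply']
    change B (col i) (col j) = _
    rcases i with i | i <;> rcases j with j | j
    · simp [col, hee, Matrix.J]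
    · simp only [col, Sum.elim_inl, Sum.elim_inr, Matrix.J, fromBlocks_apply₁₂, Matrix.neg_apply]
      rw [form_swap, hfe]
    · simp only [col, Sum.elim_inl, Sum.elim_inr, Matrix.J, fromBlocks_apply₂₁, hfe]
      by_cases h : i = j
      · subst h; rfl
      · rw [Matrix.one_apply_ne (Ne.symm h), Matrix.one_apply_ne h]
    · simp [col, hff, Matrix.J]
  refine ⟨⟨Q, hQ⟩, GeneralLinearGroup.mkOfDetNeZero (-(S * C))
    (by rw [det_neg, hSC]; simp), ?_, ?_, ?_⟩
  · ext i j
    change ((((⟨Q, hQ⟩ : Sp4 F)⁻¹ * g * ⟨Q, hQ⟩ : Sp4 F)) : M4 F) (Sum.inl i) (Sum.inl j) = (-(S * C)) i j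
    set P : Sp4 F := ⟨Q, hQ⟩
    have hcol : g.1 *ᵥ e j = Q *ᵥ Sum.elim (fun i => (-(S * C)) i j) (fun k => C k j) := by
      have h1 : g.1 *ᵥ e j = ∑ k, C k j • f₀ k := by
        simp only [f₀, Finset.smul_sum, smul_smul]
        rw [Finset.sum_comm]
        simp only [← Finset.sum_smul]
        have : ∀ i, ∑ k, C k j * C⁻¹ i k = (1 : M2 F) i j := fun i => by
          rw [← hCC, Matrix.mul_apply]
          exact Finset.sum_congr rfl fun k _ => mul_comm _ _
        simp [this, Matrix.one_apply]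
      rw [h1]
      funext r
      simp only [Matrix.mulVec, dotProduct, Q, Matrix.of_apply, Fintype.sum_sum_type, col,
        Sum.elim_inl, Sum.elim_inr, f, Pi.add_apply, Finset.sum_apply, Pi.smul_apply, smul_eq_mul,
        Matrix.mul_apply, Matrix.neg_apply, Fin.sum_univ_two]
      ring
    have : ((P⁻¹ * g * P : Sp4 F) : M4 F) *ᵥ Pi.single (Sum.inl j) 1 =
        Sum.elim (fun i => (-(S * C)) i j) (fun k => C k j) := by
      rw [Submonoid.coe_mul, Submonoid.coe_mul, ← mulVec_mulVec, ← mulVec_mulVec]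
      have he : (P : M4 F) *ᵥ Pi.single (Sum.inl j) 1 = e j := by
        rw [mulVec_single_one]; rfl
      rw [he, hcol]
      change ((P⁻¹ : Sp4 F) : M4 F) *ᵥ ((P : M4 F) *ᵥ _) = _
      rw [mulVec_mulVec, ← Submonoid.coe_mul, inv_mul_cancel, Submonoid.coe_one, one_mulVec]
    rw [mulVec_single_one] at this
    exact congrFun this (Sum.inl i)
  · change (-(S * C)).det = 1
    rw [det_neg, hSC]; simp
  · rcases hM with h | h
    · exact Or.inl (Units.ext h)
    · exact Or.inr h

/-- Case of a fixed isotropic pair. -/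
theorem compressed_of_fixed (u v : V4 F) (huv : B u v = 0) (hu : g.1 *ᵥ u = u) (hv : g.1 *ᵥ v = v)
    (hind : ∀ a b : F, a • u + b • v = 0 → a = 0 ∧ b = 0) : Compressed g := by
  obtain ⟨P, hP⟩ := witt_matrix (m := 2) (n := 2)
    ![Pi.single (Sum.inl 0) (1 : F), Pi.single (Sum.inl 1) 1] ![u, v]
    (LinearIndependent.pair_iff.2 fun a b h => by
      have h0 := congrFun h (Sum.inl 0)
      have h1 := congrFun h (Sum.inl 1)
      simp at h0 h1
      exact ⟨h0, h1⟩)
    (LinearIndependent.pair_iff.2 hind)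
    (fun i j => by
      simp only [← sympBilin_apply]
      fin_cases i <;> fin_cases j <;>
        simp [form_single, form_self, huv, form_swap u v, Matrix.J])
  refine ⟨P, 1, ?_, by simp, Or.inl rfl⟩
  ext i j
  have h2 : ((P⁻¹ * g * P : Sp4 F) : M4 F) *ᵥ Pi.single (Sum.inl j) 1 = Pi.single (Sum.inl j) 1 := by
    have key : ∀ x y, P.1 *ᵥ x = y → g.1 *ᵥ y = y →
        ((P⁻¹ * g * P : Sp4 F) : M4 F) *ᵥ x = x := by
      intro x y hx hy
      rw [Submonoid.coe_mul, Submonoid.coe_mul, ← mulVec_mulVec, ← mulVec_mulVec, hx, hy, ← hx,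
        mulVec_mulVec, ← Submonoid.coe_mul, inv_mul_cancel, Submonoid.coe_one, one_mulVec]
    fin_cases j
    · exact key _ u (hP 0) hu
    · exact key _ v (hP 1) hv
  rw [mulVec_single_one] at h2
  have := congrFun h2 (Sum.inl i)
  change ((P⁻¹ * g * P : Sp4 F) : M4 F) (Sum.inl i) (Sum.inl j) = (1 : M2 F) i j
  refine (this : ((P⁻¹ * g * P : Sp4 F) : M4 F) (Sum.inl i) (Sum.inl j) = _).trans ?_
  simp [Pi.single_apply, Matrix.one_apply]

section Existence

theorem exists_pair_one' {u : V4 F} (hu : u ≠ 0) : ∃ p, B u p = 1 := by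
  obtain ⟨p, hp⟩ := exists_pair_one hu
  exact ⟨p, by rw [sympBilin_apply]; exact hp⟩

theorem eq_smul_of_orth {u w : V4 F} (hu : u ≠ 0) (h : ∀ x, B u x = 0 → B w x = 0) :
    ∃ c : F, w = c • u := by
  obtain ⟨p, hp⟩ := exists_pair_one' hu
  refine ⟨B w p, ?_⟩
  have : ∀ x, B (w - B w p • u) x = 0 := by
    intro x
    have := h (x - B u x • p) (by simp [hp])
    simp only [map_sub, map_smul, smul_eq_mul] at this
    simp only [map_sub, map_smul, LinearMap.sub_apply, LinearMap.smul_apply, smul_eq_mul]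
    linear_combination this
  exact sub_eq_zero.1 (sympBilin_separatingLeft _ this)

theorem exists_zero [Fintype F] (p : ℕ) [Fact p.Prime] [CharP F p] (j : Fin 2 ⊕ Fin 2) :
    ∃ x : V4 F, x ≠ 0 ∧ x j = 0 ∧ B (g.1 *ᵥ x) x = 0 := by
  classical
  let σ := {i : Fin 2 ⊕ Fin 2 // i ≠ j}
  let ext' : (σ → F) → V4 F := fun y => ∑ a : σ, y a • Pi.single (a : Fin 2 ⊕ Fin 2) 1
  let q : MvPolynomial σ F := ∑ a : σ, ∑ b : σ,
    MvPolynomial.C (B (g.1 *ᵥ Pi.single (a : Fin 2 ⊕ Fin 2) 1) (Pi.single (b : Fin 2 ⊕ Fin 2) 1)) *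
      MvPolynomial.X a * MvPolynomial.X b
  have hev : ∀ y, MvPolynomial.eval y q = B (g.1 *ᵥ ext' y) (ext' y) := by
    intro y
    simp only [q, ext', Matrix.mulVec_sum, Matrix.mulVec_smul, map_sum, LinearMap.sum_apply, map_smul,
      LinearMap.smul_apply, smul_eq_mul, map_mul, MvPolynomial.eval_C, MvPolynomial.eval_X,
      Finset.mul_sum]
    rw [Finset.sum_comm]
    exact Finset.sum_congr rfl fun a _ => Finset.sum_congr rfl fun b _ => by ring
  have hdeg : q.totalDegree ≤ 2 := by
    refine (MvPolynomial.totalDegree_finsetSum _ _).trans (Finset.sup_le fun a _ =>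
      (MvPolynomial.totalDegree_finsetSum _ _).trans (Finset.sup_le fun b _ => ?_))
    refine (MvPolynomial.totalDegree_mul _ _).trans ((Nat.add_le_add (MvPolynomial.totalDegree_mul _ _) le_rfl).trans ?_)
    simp [MvPolynomial.totalDegree_C, MvPolynomial.totalDegree_X]
  have hcard : Fintype.card σ = 3 := by simp [σ, Fintype.card_subtype_compl]
  have hdvd := char_dvd_card_solutions p (f := q) (by omega)
  have hext : ∀ (y : σ → F) (i : σ), ext' y i = y i := by
    intro y i
    simp only [ext', Finset.sum_apply, Pi.smul_apply, smul_eq_mul]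
    refine (Finset.sum_eq_single i (fun a _ ha => ?_) (by simp)).trans (by simp)
    rw [Pi.single_eq_of_ne (fun h => ha (Subtype.ext h).symm), mul_zero]
  obtain ⟨y, hy, hy0⟩ : ∃ y : σ → F, MvPolynomial.eval y q = 0 ∧ y ≠ 0 := by
    by_contra hc
    push Not at hc
    have h1 : Fintype.card {y : σ → F // MvPolynomial.eval y q = 0} = 1 :=
      Fintype.card_eq_one_iff.2 ⟨⟨0, by rw [hev]; simp [ext']⟩, fun y => Subtype.ext (hc y.1 y.2)⟩
    rw [h1] at hdvd
    exact (Fact.out : p.Prime).one_lt.ne' (Nat.dvd_one.1 hdvd)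
  refine ⟨ext' y, fun h => hy0 (funext fun i => ?_), ?_, (hev y).symm.trans hy⟩
  · rw [← hext y i, h]; rfl
  · simp only [ext', Finset.sum_apply, Pi.smul_apply]
    exact Finset.sum_eq_zero fun a _ => by simp [Pi.single_eq_of_ne (Ne.symm a.2)]

/-- If a pair of independent vectors is fixed, the element compresses. -/
theorem compressed_of_two_fixed (hF : ∃ a : F, a ≠ 0 ∧ a ≠ 1) (a b : V4 F) (ha : g.1 *ᵥ a = a)
    (hb : g.1 *ᵥ b = b) (hind : ∀ s t : F, s • a + t • b = 0 → s = 0 ∧ t = 0) : Compressed g := by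
  classical
  by_cases hab : B a b = 0
  · exact compressed_of_fixed g a b hab ha hb hind
  set b' := (B a b)⁻¹ • b
  have hb' : g.1 *ᵥ b' = b' := by rw [mulVec_smul, hb]
  have hab' : B a b' = 1 := by simp [b', hab]
  obtain ⟨A, hA1, hA2⟩ := transitive_hyperbolic_matrix (m := 2) (Pi.single (Sum.inr 0) (1 : F))
    (Pi.single (Sum.inl 0) 1) a b'
    (by rw [← sympBilin_apply, form_single]; simp [Matrix.J]) (by rw [← sympBilin_apply]; exact hab')
  set c := A.1 *ᵥ Pi.single (Sum.inr 1) (1 : F) with hc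
  set d := A.1 *ᵥ Pi.single (Sum.inl 1) (1 : F) with hd
  have hac : B a c = 0 := by rw [← hA1, hc, form_mulVec, form_single]; simp [Matrix.J]
  have had : B a d = 0 := by rw [← hA1, hd, form_mulVec, form_single]; simp [Matrix.J]
  have hbc : B b' c = 0 := by rw [← hA2, hc, form_mulVec, form_single]; simp [Matrix.J]
  have hbd : B b' d = 0 := by rw [← hA2, hd, form_mulVec, form_single]; simp [Matrix.J]
  have hcd : B c d = 1 := by rw [hc, hd, form_mulVec, form_single]; simp [Matrix.J]
  have hfix : ∀ x y, g.1 *ᵥ y = y → B (g.1 *ᵥ x) y = B x y := fun x y hy => by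
    conv_lhs => rw [← hy]
    exact form_mulVec g x y
  let X : M2 F := !![B (g.1 *ᵥ c) c, B (g.1 *ᵥ c) d - 1; B (g.1 *ᵥ d) c + 1, B (g.1 *ᵥ d) d]
  have hca : B c a = 0 := by rw [form_swap, hac, neg_zero]
  have hda : B d a = 0 := by rw [form_swap, had, neg_zero]
  have hcb : B c b' = 0 := by rw [form_swap, hbc, neg_zero]
  have hdb : B d b' = 0 := by rw [form_swap, hbd, neg_zero]
  by_cases hX : X.det = 0
  · -- a fixed vector orthogonal to `a`
    obtain ⟨v, hv0, hv⟩ := Matrix.exists_vecMul_eq_zero_iff.2 hX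
    set z := v 0 • c + v 1 • d with hz
    have e1 := congrFun hv 0
    have e2 := congrFun hv 1
    simp [X, Matrix.vecMul, dotProduct, Fin.sum_univ_two] at e1 e2
    have hzc : B (g.1 *ᵥ z - z) c = 0 := by
      simp only [hz, mulVec_add, mulVec_smul, map_sub, map_add, map_smul, LinearMap.sub_apply,
        LinearMap.add_apply, LinearMap.smul_apply, smul_eq_mul, form_self, form_swap c d, hcd]
      linear_combination e1
    have hzd : B (g.1 *ᵥ z - z) d = 0 := by
      simp only [hz, mulVec_add, mulVec_smul, map_sub, map_add, map_smul, LinearMap.sub_apply,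
        LinearMap.add_apply, LinearMap.smul_apply, smul_eq_mul, form_self, hcd]
      linear_combination e2
    have hzfix : g.1 *ᵥ z = z := by
      refine sub_eq_zero.1 (sympBilin_separatingLeft _ fun x => ?_)
      have hlin : (B (g.1 *ᵥ z - z)) ∘ₗ Matrix.toLin' A.1 = 0 := by
        refine (Pi.basisFun F (Fin 2 ⊕ Fin 2)).ext fun i => ?_
        rw [LinearMap.comp_apply, Pi.basisFun_apply, Matrix.toLin'_apply, LinearMap.zero_apply]
        rcases i with i | i <;> fin_cases i
        · change B _ (A.1 *ᵥ Pi.single (Sum.inl 0) 1) = 0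
          rw [hA2, map_sub, LinearMap.sub_apply, hfix _ _ hb', sub_self]
        · exact hzd
        · change B _ (A.1 *ᵥ Pi.single (Sum.inr 0) 1) = 0
          rw [hA1, map_sub, LinearMap.sub_apply, hfix _ _ ha, sub_self]
        · exact hzc
      have hx := LinearMap.congr_fun hlin ((A⁻¹ : Sp4 F).1 *ᵥ x)
      rw [LinearMap.comp_apply, Matrix.toLin'_apply, mulVec_mulVec, ← Submonoid.coe_mul, mul_inv_cancel,
        Submonoid.coe_one, one_mulVec] at hx
      exact hx
    have hza : B a z = 0 := by simp [hz, hac, had]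
    refine compressed_of_fixed g a z hza ha hzfix fun s t hst => ?_
    have hs : s = 0 := by
      have := congrArg (fun w => B w b') hst
      simp [hz, hab', hcb, hdb] at this
      exact this
    subst hs
    refine ⟨rfl, ?_⟩
    rw [zero_smul, zero_add] at hst
    refine (smul_eq_zero.1 hst).resolve_right fun hz0 => hv0 (funext fun i => ?_)
    have h1 := congrArg (fun w => B w d) hz0
    have h2 := congrArg (fun w => B c w) hz0
    simp [hz, hcd, form_self] at h1 h2
    fin_cases i
    · exact h1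
    · exact h2
  · refine compressed_of_gram g hF (a + c) (b' - d) ?_ ?_
    · simp only [map_add, map_sub, LinearMap.add_apply]
      rw [hab', had, hcb, hcd]; ring
    · rw [det_fin_two] at hX
      simp only [mulVec_add, mulVec_sub, ha, hb', map_add, map_sub, LinearMap.add_apply,
        LinearMap.sub_apply, hfix _ _ ha, hfix _ _ hb', form_self, hac, had, hbc, hbd, hca, hda, hcb,
        hdb, hab', form_swap a b']
      simp [X] at hX
      intro h
      exact hX (by linear_combination h)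

/-- Every non-central element compresses, up to sign. -/
theorem compressed_or_neg [Fintype F] (p : ℕ) [Fact p.Prime] [CharP F p]
    (hF : ∃ a : F, a ≠ 0 ∧ a ≠ 1) : Compressed g ∨ Compressed (negSp g) := by
  classical
  by_cases h1 : ∃ u : V4 F, B (g.1 *ᵥ u) u = 0 ∧ ∀ c : F, g.1 *ᵥ u ≠ c • u
  · obtain ⟨u, hu, hne⟩ := h1
    left
    have hu0 : u ≠ 0 := by
      rintro rfl
      exact hne 0 (by simp)
    -- two functionals that do not vanish on `u^⊥`
    obtain ⟨v₁, hv₁, hv₁'⟩ : ∃ v, B u v = 0 ∧ B (g.1 *ᵥ u) v ≠ 0 := by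
      by_contra hc
      push Not at hc
      obtain ⟨c, hc⟩ := eq_smul_of_orth hu0 hc
      exact hne c hc
    obtain ⟨v₂, hv₂, hv₂'⟩ : ∃ v, B u v = 0 ∧ B (g.1 *ᵥ v) u ≠ 0 := by
      by_contra hc
      push Not at hc
      have hgi : g.1 *ᵥ ((g⁻¹ : Sp4 F).1 *ᵥ u) = u := by
        rw [mulVec_mulVec, ← Submonoid.coe_mul, mul_inv_cancel, Submonoid.coe_one, one_mulVec]
      obtain ⟨c, hc'⟩ := eq_smul_of_orth (w := (g⁻¹ : Sp4 F).1 *ᵥ u) hu0 fun x hx => by
        have := hc x hx
        rw [← hgi, form_mulVec, form_swap] at this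
        simpa using this
      rw [hc', mulVec_smul] at hgi
      have hc0 : c ≠ 0 := by
        rintro rfl
        rw [zero_smul] at hgi
        exact hu0 hgi.symm
      refine hne c⁻¹ ?_
      conv_rhs => rw [← hgi]
      rw [smul_smul, inv_mul_cancel₀ hc0, one_smul]
    obtain ⟨v, hv, hv', hv''⟩ : ∃ v, B u v = 0 ∧ B (g.1 *ᵥ u) v ≠ 0 ∧ B (g.1 *ᵥ v) u ≠ 0 := by
      by_cases ha : B (g.1 *ᵥ v₁) u = 0
      · by_cases hb : B (g.1 *ᵥ u) v₂ = 0
        · exact ⟨v₁ + v₂, by simp [hv₁, hv₂], by simp [hb, hv₁'],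
            by simp [mulVec_add, ha, hv₂']⟩
        · exact ⟨v₂, hv₂, hb, hv₂'⟩
      · exact ⟨v₁, hv₁, hv₁', ha⟩
    refine compressed_of_gram g hF u v hv ?_
    rw [hu, zero_mul, zero_sub, neg_ne_zero]
    exact mul_ne_zero hv' hv''
  push Not at h1
  have hlam : ∀ u : V4 F, u ≠ 0 → B (g.1 *ᵥ u) u = 0 → ∃ c : F, g.1 *ᵥ u = c • u ∧ c * c = 1 := by
    intro e he0 he
    obtain ⟨l, hl⟩ := h1 e he
    refine ⟨l, hl, ?_⟩
    have hl0 : l ≠ 0 := by
      rintro rfl
      obtain ⟨p, hp⟩ := exists_pair_one' he0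
      have := form_mulVec g e p
      rw [hl, zero_smul, map_zero, LinearMap.zero_apply, hp] at this
      exact zero_ne_one this
    by_contra hll
    have hl2 : l - l⁻¹ ≠ 0 := fun h => hll (by
      rw [sub_eq_zero] at h
      nth_rw 2 [h]
      exact mul_inv_cancel₀ hl0)
    have hge : ∀ x, B (g.1 *ᵥ x) e = l⁻¹ * B x e := fun x => by
      have := form_mulVec g x e
      rw [hl, map_smul, smul_eq_mul] at this
      rw [← this, ← mul_assoc, inv_mul_cancel₀ hl0, one_mul]
    -- off `e^⊥`, `g - l⁻¹` has values in `F e`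
    have hoff : ∀ x, B e x ≠ 0 → g.1 *ᵥ x - l⁻¹ • x ∈ F ∙ e := by
      intro x hx
      set t := -B (g.1 *ᵥ x) x * ((l - l⁻¹) * B e x)⁻¹
      have hd : ((l - l⁻¹) * B e x)⁻¹ * ((l - l⁻¹) * B e x) = 1 :=
        inv_mul_cancel₀ (mul_ne_zero hl2 hx)
      have hz : B (g.1 *ᵥ (x + t • e)) (x + t • e) = 0 := by
        simp only [mulVec_add, mulVec_smul, hl, map_add, map_smul, LinearMap.add_apply,
          LinearMap.smul_apply, smul_eq_mul, hge, form_swap e x, form_self]
        linear_combination -B (g.1 *ᵥ x) x * hd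
      obtain ⟨m, hm⟩ := h1 _ hz
      have hlm : l * m = 1 := by
        have := form_mulVec g e (x + t • e)
        rw [hm, hl] at this
        simp only [map_smul, map_add, LinearMap.smul_apply, smul_eq_mul, form_self, mul_zero,
          add_zero] at this
        have h : (l * m - 1) * B e x = 0 := by linear_combination this
        exact sub_eq_zero.1 ((mul_eq_zero.1 h).resolve_right hx)
      rw [Submodule.mem_span_singleton]
      refine ⟨m * t - t * l, ?_⟩
      rw [show l⁻¹ = m from inv_eq_of_mul_eq_one_right hlm]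
      rw [mulVec_add, mulVec_smul, hl, smul_add, smul_smul, smul_smul] at hm
      rw [eq_sub_of_add_eq hm, sub_smul]
      abel
    obtain ⟨x₀, hx₀⟩ := exists_pair_one' he0
    have hall : ∀ x, g.1 *ᵥ x - l⁻¹ • x ∈ F ∙ e := by
      intro x
      by_cases hx : B e x = 0
      · have h := sub_mem (hoff (x + x₀) (by simp [hx, hx₀])) (hoff x₀ (by simp [hx₀]))
        rw [mulVec_add, smul_add] at h
        convert h using 1
        abel
      · exact hoff x hx
    let T : (V4 F) →ₗ[F] (V4 F) := Matrix.toLin' g.1 - l⁻¹ • LinearMap.id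
    have hTr : LinearMap.range T ≤ F ∙ e := by
      rintro _ ⟨x, rfl⟩
      simpa [T] using hall x
    have hrn := LinearMap.finrank_range_add_finrank_ker T
    have hV : Module.finrank F (V4 F) = 4 := by simp [Module.finrank_fintype_fun_eq_card]
    have hr1 : Module.finrank F (LinearMap.range T) ≤ 1 :=
      (Submodule.finrank_mono hTr).trans (finrank_span_singleton he0).le
    have hker : LinearMap.ker T ≤ LinearMap.BilinForm.orthogonal B (LinearMap.ker T) := by
      intro x hx y hy
      have hx' : g.1 *ᵥ x = l⁻¹ • x := sub_eq_zero.1 (by simpa [T] using hx)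
      have hy' : g.1 *ᵥ y = l⁻¹ • y := sub_eq_zero.1 (by simpa [T] using hy)
      have := form_mulVec g y x
      rw [hx', hy'] at this
      simp only [map_smul, LinearMap.smul_apply, smul_eq_mul] at this
      have hh : (l⁻¹ * l⁻¹ - 1) * B y x = 0 := by linear_combination this
      refine (mul_eq_zero.1 hh).resolve_left fun h => hll ?_
      have hi := mul_inv_cancel₀ hl0
      linear_combination -(l * l) * h + (l * l⁻¹ + 1) * hi
    have hk := Submodule.finrank_mono hker
    rw [LinearMap.BilinForm.finrank_orthogonal sympBilin_nondegenerate, hV] at hk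
    omega
  -- two independent zeros with the same eigenvalue
  obtain ⟨e, he0, -, he⟩ := exists_zero g p (Sum.inl 0)
  obtain ⟨j, hj⟩ : ∃ j, e j ≠ 0 := by
    by_contra hc
    push Not at hc
    exact he0 (funext hc)
  obtain ⟨e', he'0, hje', he'⟩ := exists_zero g p j
  have hind : ∀ s t : F, s • e + t • e' = 0 → s = 0 ∧ t = 0 := by
    intro s t h
    have hj' := congrFun h j
    simp [hje', hj] at hj'
    subst hj'
    rw [zero_smul, zero_add] at h
    exact ⟨rfl, (smul_eq_zero.1 h).resolve_right he'0⟩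
  obtain ⟨l, hl, hll⟩ := hlam e he0 he
  obtain ⟨l', hl', hll'⟩ := hlam e' he'0 he'
  have hsum : B (g.1 *ᵥ (e + e')) (e + e') = 0 := by
    have h := form_mulVec g e e'
    rw [hl, hl'] at h
    simp only [map_smul, LinearMap.smul_apply, smul_eq_mul] at h
    simp only [mulVec_add, map_add, LinearMap.add_apply, he, he', hl, hl', map_smul,
      LinearMap.smul_apply, smul_eq_mul, form_swap e e', mul_neg]
    simp only [hl, hl', map_smul, LinearMap.smul_apply, smul_eq_mul] at he he'
    linear_combination he + he' + (-l) * h + (l' * B e e') * hll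
  obtain ⟨m, hm⟩ := h1 _ hsum
  have h2 : (l - m) • e + (l' - m) • e' = 0 := by
    rw [mulVec_add, hl, hl', smul_add] at hm
    rw [sub_smul, sub_smul, ← sub_eq_zero.2 hm]
    abel
  obtain ⟨e1, e2⟩ := hind _ _ h2
  have hlm : l' = l := by linear_combination e2 - e1
  subst hlm
  rcases mul_self_eq_one_iff.1 hll with rfl | rfl
  · exact Or.inl (compressed_of_two_fixed g hF e e' (by rw [hl, one_smul]) (by rw [hl', one_smul]) hind)
  · exact Or.inr (compressed_of_two_fixed (negSp g) hF e e'
      (by rw [negSp_mulVec, hl, neg_one_smul, neg_neg]) (by rw [negSp_mulVec, hl', neg_one_smul, neg_neg])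
      hind)

end Existence

end CfsgLib.SpFourSquare
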