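import Cfsg.Agent.Lib.SpFourSquare.Levi

/-!
# Facts about `GL₂`

A fixed irreducible element `A` with characteristic polynomial `X² - X + ν`, its class, products
of its class and the inverse class, and the twisted conjugacy on symmetric matrices.
-/

set_option autoImplicit false

namespace CfsgLib.SpFourSquare

open Matrix

variable {F : Type*} [Field F]

/-- The admissible parameters. -/
def Good (ν : F) : Prop := ν ≠ 0 ∧ ν ≠ 1 ∧ ∀ a : F, a * a - a + ν ≠ 0

theorem exists_good [Fintype F] (h3 : 3 ≤ Fintype.card F) : ∃ ν : F, Good ν := by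
  classical
  let f : F → F := fun a => a - a * a
  suffices h : ∃ ν : F, ν ≠ 1 ∧ ∀ a, f a ≠ ν by
    obtain ⟨ν, h1, h⟩ := h
    refine ⟨ν, fun h0 => h 0 (by simp [f, h0]), h1, fun a ha => h a ?_⟩
    simp only [f]; linear_combination -ha
  obtain ⟨ν, hν⟩ : ∃ ν, ∀ a, f a ≠ ν := by
    by_contra hc
    push Not at hc
    exact zero_ne_one ((Finite.injective_iff_surjective.2 hc) (by simp [f] : f 0 = f 1))
  by_contra hc
  push Not at hc
  have hν1 : ν = 1 := by
    by_contra h
    obtain ⟨a, ha⟩ := hc ν h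
    exact hν a ha
  subst hν1
  -- every value other than `1` is attained, and `f a = f (1 - a)`
  by_cases hex : ∃ a : F, a ≠ 0 ∧ a ≠ 1 ∧ 2 * a ≠ 1
  · obtain ⟨a, ha0, ha1, ha2⟩ := hex
    have hsub : (Finset.univ.erase (1 : F)) ⊆ ((Finset.univ.erase (1 : F)).erase a).image f := by
      intro v hv
      obtain ⟨b, hb⟩ := hc v (Finset.ne_of_mem_erase hv)
      rw [Finset.mem_image]
      have key : ∀ c, f c = v → c ≠ 1 → c ≠ a → ∃ c ∈ (Finset.univ.erase (1 : F)).erase a, f c = v :=
        fun c h1 h2 h3 => ⟨c, by simp [h2, h3], h1⟩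
      have hsym : ∀ c, f (1 - c) = f c := fun c => by simp only [f]; ring
      by_cases hb1 : b = 1
      · exact key (1 - b) (by rw [hsym, hb]) (by simp [hb1]) (by simp [hb1, Ne.symm ha0])
      by_cases hba : b = a
      · refine key (1 - b) (by rw [hsym, hb]) (fun h => ha0 ?_) (fun h => ha2 ?_)
        · linear_combination -h - hba
        · linear_combination -h - hba
      exact key b hb hb1 hba
    have hle := (Finset.card_le_card hsub).trans Finset.card_image_le
    rw [Finset.card_erase_of_mem (s := Finset.univ.erase (1 : F)) (a := a) (by simp [ha1])] at hle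
    have : 2 ≤ Fintype.card F := by omega
    simp only [Finset.card_erase_of_mem (Finset.mem_univ _), Finset.card_univ] at hle
    omega
  · push Not at hex
    -- then the field has three elements
    obtain ⟨a, -, ha⟩ := Finset.exists_mem_notMem_of_card_lt_card
      (s := ({0, 1} : Finset F)) (t := Finset.univ) (by
        rw [Finset.card_univ]; exact (Finset.card_le_two).trans_lt h3)
    simp only [Finset.mem_insert, Finset.mem_singleton, not_or] at ha
    have h2a := hex a ha.1 ha.2
    have h2 : (2 : F) ≠ 0 := fun h => one_ne_zero (by rw [← h2a, h, zero_mul] : (1 : F) = 0)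
    obtain ⟨b, hb⟩ := hν 0 |> fun _ => hc (-1) (fun h => h2 (by linear_combination -h))
    by_cases hb0 : b = 0
    · exact h2 (by simp [f, hb0] at hb)
    by_cases hb1 : b = 1
    · exact h2 (by simp [f, hb1] at hb)
    have hbb := hex b hb0 hb1
    simp only [f] at hb
    -- `2 b = 1` gives `f b = 1/4 = -1`, so `5 = 0` and `2` breaks `2 a = 1`
    have h5 : (5 : F) = 0 := by linear_combination (4 : F) * hb + (2 * b - 1) * hbb
    have h22 := hex 2 h2 (fun h => one_ne_zero (by linear_combination h : (1 : F) = 0))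
    exact h2 (by linear_combination h5 - h22)

/-- The element `A`. -/
noncomputable def AA {ν : F} (h : ν ≠ 0) : GL (Fin 2) F :=
  GeneralLinearGroup.mkOfDetNeZero !![0, -ν; 1, 1] (by rw [det_fin_two_of]; simpa using h)

theorem coe_AA {ν : F} (h : ν ≠ 0) : ((AA h : GL (Fin 2) F) : M2 F) = !![0, -ν; 1, 1] := rfl

/-- Conjugates of `A`. -/
def ConjA {ν : F} (h : ν ≠ 0) (T : GL (Fin 2) F) : Prop := ∃ P : GL (Fin 2) F, T = P * AA h * P⁻¹

theorem conjA_of_eq {ν : F} (h : ν ≠ 0) {T : GL (Fin 2) F} (P : M2 F) (hP : P.det ≠ 0)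
    (hTP : (T : M2 F) * P = P * (AA h : M2 F)) : ConjA h T := by
  refine ⟨GeneralLinearGroup.mkOfDetNeZero P hP, ?_⟩
  rw [eq_mul_inv_iff_mul_eq]
  exact Units.ext hTP

theorem conjA_of_invariants {ν : F} (hν : Good ν) {T : GL (Fin 2) F} (ht : (T : M2 F).trace = 1)
    (hd : (T : M2 F).det = ν) : ConjA hν.1 T := by
  rw [trace_fin_two] at ht
  rw [det_fin_two] at hd
  have hγ : (T : M2 F) 1 0 ≠ 0 := by
    intro h0
    rw [h0, mul_zero, sub_zero] at hd
    refine hν.2.2 ((T : M2 F) 0 0) ?_
    linear_combination (T : M2 F) 0 0 * ht - hd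
  refine conjA_of_eq _ !![1, (T : M2 F) 0 0; 0, (T : M2 F) 1 0] (by rw [det_fin_two_of]; simpa using hγ) ?_
  rw [coe_AA]
  ext i j
  fin_cases i <;> fin_cases j <;> simp [Matrix.mul_apply, Fin.sum_univ_two]
  · linear_combination (T : M2 F) 0 0 * ht - hd
  · linear_combination (T : M2 F) 1 0 * ht

theorem trace_det_of_conjA {ν : F} (h : ν ≠ 0) {T : GL (Fin 2) F} (hT : ConjA h T) :
    (T : M2 F).trace = 1 ∧ (T : M2 F).det = ν := by
  obtain ⟨P, rfl⟩ := hT
  rw [Units.val_mul, Units.val_mul, Matrix.det_units_conj, Matrix.trace_units_conj, coe_AA]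
  simp [trace_fin_two, det_fin_two]

/-- Products of the class of `A` and of its inverse class. -/
theorem exists_product [Fintype F] {ν : F} (hν : Good ν) (M : GL (Fin 2) F) (hd : (M : M2 F).det = 1)
    (hM : M = 1 ∨ (∀ c : F, (M : M2 F) ≠ c • 1) ∧ (M : M2 F).trace ≠ 2) :
    ∃ T₁ T₂ : GL (Fin 2) F, M = T₁ * T₂ ∧ ConjA hν.1 T₁ ∧ ConjA hν.1 T₂⁻¹ := by
  classical
  rcases hM with rfl | ⟨hns, hs⟩
  · exact ⟨AA hν.1, (AA hν.1)⁻¹, (mul_inv_cancel _).symm, ⟨1, by simp⟩, ⟨1, by simp⟩⟩
  set s := (M : M2 F).trace with hsdef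
  obtain ⟨α, β, hab⟩ : ∃ α β : F, α * (1 - α) - β * (1 + β - α * s) = ν := by
    by_cases h2 : (2 : F) = 0
    · have hchar : ringChar F = 2 :=
        CharP.ringChar_of_prime_eq_zero Nat.prime_two (by exact_mod_cast h2)
      have hs0 : s ≠ 0 := fun h => hs (by rw [h, h2])
      obtain ⟨α, hα⟩ := FiniteField.isSquare_of_char_two hchar (ν + s⁻¹ + s⁻¹ * s⁻¹)
      refine ⟨α, s⁻¹, ?_⟩
      have hss : s * s⁻¹ = 1 := mul_inv_cancel₀ hs0
      linear_combination (1 : F) * hα + α * hss + (α - ν - s⁻¹ - s⁻¹ * s⁻¹) * h2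
    · -- solve `y² = D(β)` for the discriminant in `α`
      obtain ⟨β, y, hy⟩ : ∃ β y : F,
          y * y = (s * s - 4) * (β * β) + 2 * (s - 2) * β + (1 - 4 * ν) := by
        by_cases hs2 : s = -2
        · have h8 : (-8 : F) ≠ 0 := by
            intro h
            have : (2 : F) ^ 3 = 0 := by linear_combination -h
            exact h2 (pow_eq_zero_iff (by norm_num) |>.1 this)
          refine ⟨-(1 - 4 * ν) * (-8 : F)⁻¹, 0, ?_⟩
          have hm : (-8 : F) * (-8 : F)⁻¹ = 1 := mul_inv_cancel₀ h8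
          rw [hs2]
          linear_combination (1 - 4 * ν) * hm
        · have hlead : s * s - 4 ≠ 0 := by
            intro h
            have : (s - 2) * (s + 2) = 0 := by linear_combination h
            rcases mul_eq_zero.1 this with h' | h'
            · exact hs (sub_eq_zero.1 h')
            · exact hs2 (eq_neg_of_add_eq_zero_left h')
          open Polynomial in
          obtain ⟨y, β, h⟩ := FiniteField.exists_root_sum_quadratic
            (f := (X ^ 2 : F[X]))
            (g := C (-(s * s - 4)) * X ^ 2 + C (-(2 * (s - 2))) * X + C (-(1 - 4 * ν)))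
            (degree_X_pow 2) (degree_quadratic (neg_ne_zero.2 hlead))
            (FiniteField.odd_card_of_char_ne_two (fun h => h2 (by
              have := ringChar.Nat.cast_ringChar (R := F); rw [h] at this; exact_mod_cast this)))
          refine ⟨β, y, ?_⟩
          simp only [Polynomial.eval_pow, Polynomial.eval_X, Polynomial.eval_add, Polynomial.eval_mul,
            Polynomial.eval_C] at h
          linear_combination h
      refine ⟨(s * β + 1 + y) * (2 : F)⁻¹, β, ?_⟩
      field_simp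
      linear_combination -hy
  set c : F := 1 + β - α * s
  -- companion form of `M`
  obtain ⟨v, hv⟩ : ∃ v : Fin 2 → F, !![v 0, ((M : M2 F) *ᵥ v) 0; v 1, ((M : M2 F) *ᵥ v) 1].det ≠ 0 := by
    by_contra hc
    push Not at hc
    have h1 := hc ![1, 0]
    have h2 := hc ![0, 1]
    have h3 := hc ![1, 1]
    simp [det_fin_two_of, Matrix.mulVec, dotProduct, Fin.sum_univ_two] at h1 h2 h3
    refine hns ((M : M2 F) 0 0) ?_
    ext i j
    fin_cases i <;> fin_cases j <;> simp [h1, h2]
    linear_combination h3 - h1 + h2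
  set Pm : M2 F := !![v 0, ((M : M2 F) *ᵥ v) 0; v 1, ((M : M2 F) *ᵥ v) 1] with hPm
  let P : GL (Fin 2) F := GeneralLinearGroup.mkOfDetNeZero Pm hv
  let S : GL (Fin 2) F := GeneralLinearGroup.mkOfDetNeZero !![0, -1; 1, s] (by simp [det_fin_two_of])
  have hMP : M * P = P * S := by
    refine Units.ext ?_
    change (M : M2 F) * Pm = Pm * !![0, -1; 1, s]
    have hd' := hd
    rw [det_fin_two] at hd'
    have hst : s = (M : M2 F) 0 0 + (M : M2 F) 1 1 := trace_fin_two _
    ext i j
    fin_cases i <;> fin_cases j <;>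
      simp [hPm, Matrix.mul_apply, Fin.sum_univ_two, Matrix.mulVec, dotProduct]
    · rw [hst]; linear_combination -(v 0) * hd'
    · rw [hst]; linear_combination -(v 1) * hd'
  have hdetT : !![α, β; c, 1 - α].det = ν := by rw [det_fin_two_of]; linear_combination hab
  let T : GL (Fin 2) F := GeneralLinearGroup.mkOfDetNeZero !![α, β; c, 1 - α] (by rw [hdetT]; exact hν.1)
  have hS : P * S * P⁻¹ = M := by rw [← hMP, mul_inv_cancel_right]
  refine ⟨P * T * P⁻¹, P * (T⁻¹ * S) * P⁻¹, by rw [← hS]; group, ?_, ?_⟩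
  · refine conjA_of_invariants hν ?_ ?_
    · rw [Units.val_mul, Units.val_mul, Matrix.trace_units_conj]
      change !![α, β; c, 1 - α].trace = 1
      simp [trace_fin_two]
    · rw [Units.val_mul, Units.val_mul, Matrix.det_units_conj]
      exact hdetT
  · rw [show (P * (T⁻¹ * S) * P⁻¹)⁻¹ = P * (S⁻¹ * T) * P⁻¹ by group]
    have hSi : ((S⁻¹ : GL (Fin 2) F) : M2 F) = !![s, 1; -1, 0] := by
      refine Units.inv_eq_of_mul_eq_one_right ?_
      change !![0, -1; 1, s] * !![s, 1; -1, 0] = 1
      ext i j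
      fin_cases i <;> fin_cases j <;> simp [Matrix.mul_apply, Fin.sum_univ_two]
    refine conjA_of_invariants hν ?_ ?_
    · rw [Units.val_mul, Units.val_mul, Matrix.trace_units_conj, Units.val_mul, hSi]
      change (!![s, 1; -1, 0] * !![α, β; c, 1 - α]).trace = 1
      simp [trace_fin_two, c]
      ring
    · rw [Units.val_mul, Units.val_mul, Matrix.det_units_conj, Units.val_mul, det_mul, hSi]
      change _ * !![α, β; c, 1 - α].det = ν
      rw [hdetT]
      simp [det_fin_two_of]

/-- The twisted conjugacy is onto the symmetric matrices. -/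
theorem exists_twist {ν : F} (hν : Good ν) (W : M2 F) (hW : Wᵀ = W) :
    ∃ X : M2 F, Xᵀ = X ∧ (AA hν.1 : M2 F)ᵀ * X * (AA hν.1 : M2 F) - X = W := by
  have hd : ν * (ν * ν + ν - 2) ≠ 0 := by
    refine mul_ne_zero hν.1 fun h => ?_
    have : (ν - 1) * (ν + 2) = 0 := by linear_combination h
    rcases mul_eq_zero.1 this with h' | h'
    · exact hν.2.1 (sub_eq_zero.1 h')
    · exact hν.2.2 2 (by linear_combination h')
  have h10 : W 1 0 = W 0 1 := congrFun (congrFun hW 0) 1
  set y : F := (W 1 1 - ν * ν * (W 0 1 - W 0 0)) / (ν * (ν * ν + ν - 2)) with hy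
  have hy' : ν * (ν * ν + ν - 2) * y = W 1 1 - ν * ν * (W 0 1 - W 0 0) := by
    rw [hy, mul_div_cancel₀ _ hd]
  set z : F := (1 + ν) * y + W 0 1 with hz
  refine ⟨!![z - W 0 0, y; y, z], ?_, ?_⟩
  · ext i j; fin_cases i <;> fin_cases j <;> rfl
  · rw [coe_AA]
    ext i j
    fin_cases i <;> fin_cases j <;>
      simp [Matrix.mul_apply, Fin.sum_univ_two]
    · ring
    · rw [h10, hz]; ring
    · rw [hz]; linear_combination hy'

theorem transpose_conjA {ν : F} (hν : Good ν) {T U : GL (Fin 2) F} (hT : ConjA hν.1 T)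
    (hU : (U : M2 F) = (T : M2 F)ᵀ) : ConjA hν.1 U := by
  obtain ⟨h1, h2⟩ := trace_det_of_conjA _ hT
  exact conjA_of_invariants hν (by rw [hU, trace_transpose, h1]) (by rw [hU, det_transpose, h2])

end CfsgLib.SpFourSquare
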